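import Groth.Agent.Lib.ProjDim18.Top

/-!
# Dimension of closures of points in projective space
-/

universe u

open MvPolynomial Order AlgebraicGeometry

namespace Groth.Agent.ProjDim27

attribute [local instance] MvPolynomial.gradedAlgebra

variable (k : Type u) [Field k] (n : ℕ)

local notation "PP" => ProjectiveSpectrum (CohB1.polyGrading n k)
local notation "R" => MvPolynomial (Fin (n + 1)) k

theorem coheight_ne_top (x : PP) : Order.coheight x ≠ ⊤ := fun h => by
  have := (ProjDim18.coheight_add_one k n x)
  rw [h, top_add] at this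
  exact (VarDim.coheight_lt_top' k R (ProjDim18.conePt k n x)).ne this.symm

theorem dim_closure_singleton (x : PP) :
    topologicalKrullDim ↥(closure ({x} : Set PP)) = (Order.coheight x : WithBot ℕ∞) := by
  refine le_antisymm ?_ (ProjDim18.coheight_le_dim k n isClosed_closure (subset_closure rfl))
  rw [ProjDim18.krullDim_closed k n _ isClosed_closure, Order.krullDim_eq_iSup_coheight]
  refine iSup_le fun y => ?_
  rw [ProjDim18.coheight_subtype k n isClosed_closure y]
  exact WithBot.coe_le_coe.2
    (Order.coheight_anti ((ProjectiveSpectrum.le_iff_mem_closure (CohB1.polyGrading n k) x y.1).2 y.2))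

theorem degree_pos_of_nonempty {X : Set PP} {d : ℕ} {f : R} (hf : f.IsHomogeneous d)
    (hV : (ProjectiveSpectrum.zeroLocus (CohB1.polyGrading n k) ({f} : Set R)).Nonempty)
    (hX : ¬ X ⊆ ProjectiveSpectrum.zeroLocus (CohB1.polyGrading n k) ({f} : Set R)) : 0 < d := by
  by_contra hd
  obtain rfl : d = 0 := by omega
  obtain ⟨v, hv⟩ := hV
  have hfC : f = C (coeff 0 f) := by
    rw [← homogeneousComponent_zero, homogeneousComponent_eq_self hf]
  by_cases hc : coeff 0 f = 0
  · exact hX fun w _ => Set.singleton_subset_iff.2 (by rw [SetLike.mem_coe, hfC, hc, map_zero]; exact w.asHomogeneousIdeal.toIdeal.zero_mem)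
  · have hmem : f ∈ v.asHomogeneousIdeal.toIdeal := hv rfl
    exact v.isPrime.ne_top (Ideal.eq_top_of_isUnit_mem _ hmem (hfC ▸ (isUnit_iff_ne_zero.2 hc).map C))

/-- A hypersurface section of an irreducible closed set is equidimensional of codimension one. -/
theorem dim_component_add_one {d : ℕ} (X : Set PP) (hXc : IsClosed X) (hXi : IsIrreducible X)
    (f : R) (hf : f.IsHomogeneous d)
    (hV : (ProjectiveSpectrum.zeroLocus (CohB1.polyGrading n k) ({f} : Set R)).Nonempty)
    (hX : ¬ X ⊆ ProjectiveSpectrum.zeroLocus (CohB1.polyGrading n k) ({f} : Set R))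
    (C : Set ↥(X ∩ ProjectiveSpectrum.zeroLocus (CohB1.polyGrading n k) ({f} : Set R)))
    (hC : C ∈ irreducibleComponents ↥(X ∩ ProjectiveSpectrum.zeroLocus (CohB1.polyGrading n k) ({f} : Set R))) :
    topologicalKrullDim ↥C + 1 = topologicalKrullDim ↥X := by
  have hd := degree_pos_of_nonempty k n hf hV hX
  have hr : Set.range (![f] : Fin 1 → R) = {f} := by simp
  have key := ProjDim18.codim_components_inter_zeroLocus k n X hXc hXi ![f] ![d]
    (by intro i; fin_cases i; exact hf) (by intro i; fin_cases i; exact hd)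
  rw [hr] at key
  refine le_antisymm ?_ (by simpa using key.1 C hC)
  obtain ⟨x, hx⟩ := QuasiSober.sober hXi hXc
  obtain ⟨z, hzC, -⟩ := DimInter18.exists_maximal_point
    (hXc.inter (ProjectiveSpectrum.isClosed_zeroLocus _ _)) hC
  have hxz : x ≤ z.1 := (ProjectiveSpectrum.le_iff_mem_closure (CohB1.polyGrading n k) x z.1).2
    (hx.def.symm ▸ z.2.1)
  have hlt : x < z.1 := lt_of_le_of_ne hxz fun h => hX fun w hw => by
    have hxw : x ≤ w := (ProjectiveSpectrum.le_iff_mem_closure (CohB1.polyGrading n k) x w).2 (hx.def.symm ▸ hw)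
    exact fun b hb => hxw ((h.symm ▸ z.2.2 : x ∈ ProjectiveSpectrum.zeroLocus _ ({f} : Set R)) hb)
  rw [DimInter18.dim_subset, hzC, dim_closure_singleton,
    show topologicalKrullDim ↥X = (Order.coheight x : WithBot ℕ∞) from
      (congrArg (fun S : Set PP => topologicalKrullDim ↥S) hx.def.symm).trans (dim_closure_singleton k n x)]
  have h1 := Order.coheight_add_one_le hlt
  exact_mod_cast h1

/-- The generic point of projective space. -/
noncomputable def gen : PP :=
  ProjDim18.mkPt k n ⊥ Ideal.isPrime_bot (Ideal.IsHomogeneous.bot _)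
    fun h => MvPolynomial.X_ne_zero (0 : Fin (n + 1)) ((Submodule.mem_bot _).1 (h (Ideal.subset_span ⟨0, rfl⟩)))

theorem closure_gen : closure ({gen k n} : Set PP) = Set.univ :=
  Set.eq_univ_of_forall fun _ =>
    (ProjectiveSpectrum.le_iff_mem_closure (CohB1.polyGrading n k) _ _).1 (bot_le (α := Ideal R))

theorem irreducible_univ : IsIrreducible (Set.univ : Set PP) :=
  closure_gen k n ▸ isIrreducible_singleton.closure

theorem coheight_gen : Order.coheight (gen k n) = (n : ℕ∞) := by
  have h := ProjDim18.coheight_add_one k n (gen k n)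
  have h2 := VarDim.height_add_coheight_mvPolynomial k (n + 1) (ProjDim18.conePt k n (gen k n))
  rw [← h] at h2
  have h0 : Order.height (ProjDim18.conePt k n (gen k n)) = 0 :=
    Order.height_eq_zero.2 fun y _ => bot_le (a := y.asIdeal)
  rw [h0, zero_add] at h2
  exact ENat.add_left_injective_of_ne_top ENat.one_ne_top (h2.trans (by push_cast; rfl))

theorem dim_PP : topologicalKrullDim PP = (n : WithBot ℕ∞) := by
  rw [← IsHomeomorph.topologicalKrullDim_eq _ (Homeomorph.Set.univ PP).isHomeomorph, ← closure_gen k n,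
    dim_closure_singleton, coheight_gen]
  rfl

end Groth.Agent.ProjDim27
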